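import Cfsg.Agent.H980.Pw.Gen
import Cfsg.Agent.H838.SylFive
import Cfsg.Agent.H842.SevenSyl
import Cfsg.Agent.H941.Sq.Mathieu
import Cfsg.Agent.LThreeFi23.Base
import Cfsg.Agent.H253.TwoComm.SporTool

/-!
# S2465, half rows (II) : `All p`, `p ≥ 5`, for `Fi23` and `Fi24'` (helper980)
-/

set_option autoImplicit false
set_option maxRecDepth 100000

namespace Cfsg.Agent.H980.Pw

open Subgroup Cfsg Cfsg.Agent.H78.Pw Cfsg.Agent.H643.PwCnt

universe u

theorem not_imc {G : Type u} [Group G] (h : ¬ ∀ a b : G, a * b = b * a) : ¬ IsMulCommutative G :=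
  fun hc => h fun a b => hc.is_comm.comm a b

/-! ### `Fi23` -/

theorem big_fi23' {p : ℕ} (hp : p.Prime) (h5 : 5 ≤ p) : All p Spor.Fi23 := by
  have hcard : Nat.card Spor.Fi23 = 4089470473293004800 := LThreeFi23.card_G
  have hfin : Finite Spor.Fi23 := Nat.finite_of_card_ne_zero (by rw [hcard]; norm_num)
  have hs : IsSimpleGroup Spor.Fi23 := Cfsg.Agent.Fischer.Fi23Simple.isFi23.1
  have hna : ¬ ∀ a b : Spor.Fi23, a * b = b * a :=
    H253.TC.not_comm_of_card (K := Spor.Fi23) hcard (by norm_num) (p := 7) (by norm_num) (by norm_num) (by norm_num)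
  by_cases hp5 : p = 5
  · subst hp5
    obtain ⟨x, hx⟩ : ∃ x : Spor.Fi23, orderOf x = 5 := by
      have := Fact.mk Nat.prime_five
      exact exists_prime_orderOf_dvd_card' 5 (by rw [hcard]; norm_num)
    have hcl : ∀ y : Spor.Fi23, orderOf y = 5 → ∃ g : Spor.Fi23, g * y * g⁻¹ = LThreeFi23.elw LThreeFi23.y5 := by
      intro y hy
      refine H838.Fi23.Syl.conj_y5 (by rw [← hy, pow_orderOf_eq_one]) ?_
      rintro rfl
      rw [orderOf_one] at hy
      norm_num at hy
    refine all_of_one_class hp (by norm_num) (z := LThreeFi23.elw LThreeFi23.y5) ?_ hcl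
    obtain ⟨g, hg⟩ := hcl x hx
    rw [← hg, ← hx]
    exact MulEquiv.orderOf_eq (MulAut.conj g) x
  · apply all_of_not_sq_dvd (not_imc hna) hp
    rw [hcard]
    intro h
    obtain ⟨hm, hd⟩ := H941.Sq.eq_of_sq hp h ([5, 5, 7, 11, 13, 17, 23] ++ List.replicate 18 2 ++
      List.replicate 13 3) (by decide) (by decide)
    simp only [List.mem_cons, List.not_mem_nil, or_false, List.mem_append, List.mem_replicate] at hm
    have h7 : p ≠ 7 := by rintro rfl; revert hd; norm_num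
    have h11 : p ≠ 11 := by rintro rfl; revert hd; norm_num
    have h13 : p ≠ 13 := by rintro rfl; revert hd; norm_num
    have h17 : p ≠ 17 := by rintro rfl; revert hd; norm_num
    have h23 : p ≠ 23 := by rintro rfl; revert hd; norm_num
    omega

/-- **(II) for `Fi23`** -/
theorem big_fi23 {S : Type u} [Group S] (h : Spor.IsoFi23 S) {p : ℕ} (hp : p.Prime) (h5 : 5 ≤ p) : All p S := by
  obtain ⟨e⟩ := h
  exact (big_fi23' hp h5).congr e.symm

/-! ### `Fi24'` -/

section TF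

open Cfsg.Agent Cfsg.Agent.Fischer.Fi24RepDef Cfsg.Agent.Fischer.Fi24Rep
open Cfsg.Agent.Fischer.Fi24Spider (word_append word_cons word_nil gword gen_conj)
open Cfsg.Agent.R08.FiTwentyFour (L gen_mem_L)
open Cfsg.Agent.LThreeFi24.SNine Cfsg.Agent.H841.Five Cfsg.Agent.H842.Seven Cfsg.Agent.H842.SevenK Cfsg.Agent.H842.SevenSyl
open Cfsg.Spor (Fi24)
open Cfsg.Spor.Fi24 (Gen)
open Cfsg.Agent.Fischer.Fi24Final (sgn sgn_gen ker_sgn)
open Equiv

theorem sgn_L {d : Fi24} (hd : d ∈ L) : sgn d = -1 := by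
  have h1 := Cfsg.Agent.R08.FiTwentyFour.odd hd
  rw [← ker_sgn, MonoidHom.mem_ker] at h1
  rcases Int.units_eq_one_or (sgn d) with h | h
  · exact absurd h h1
  · exact h

theorem sgn_Psi : sgn.comp Psi = Perm.sign := by
  apply Perm.eq_sign_of_surjective_hom
  intro u
  rcases Int.units_eq_one_or u with rfl | rfl
  · exact ⟨1, map_one _⟩
  · refine ⟨swap (0 : Fin 6).castSucc (0 : Fin 6).succ, ?_⟩
    rw [MonoidHom.comp_apply, Psi_swap]
    exact sgn_L (t_mem 0)

theorem mem_even {g : Fi24} : g ∈ commutator Fi24 ↔ sgn g = 1 := by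
  rw [← ker_sgn, MonoidHom.mem_ker]

def s2 : Perm (Fin 7) := ⟨![0, 2, 4, 6, 1, 3, 5], ![0, 4, 1, 5, 2, 6, 3], by decide, by decide⟩
def s3 : Perm (Fin 7) := ⟨![0, 3, 6, 2, 5, 1, 4], ![0, 5, 3, 1, 6, 4, 2], by decide, by decide⟩
def sc : Perm (Fin 7) := swap 0 1 * (swap 1 2 * (swap 2 3 * (swap 3 4 * (swap 4 5 * swap 5 6))))

theorem s2_sc : s2 * sc * s2⁻¹ = sc ^ 2 := by decide +kernel
theorem s3_sc : s3 * sc * s3⁻¹ = sc ^ 3 := by decide +kernel
theorem s2_sign : Perm.sign s2 = 1 := by decide +kernel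
theorem s3_sign : Perm.sign s3 = -1 := by decide +kernel

theorem sgn_t6 : sgn t6 = 1 := by
  unfold t6
  rw [map_mul, t0_eq]
  simp only [map_mul, sgn_gen]
  rw [sgn_L (show s 7 ∈ L from t_mem 5)]
  decide

theorem sgn_c : sgn c = 1 := by
  rw [c_eq]
  change (sgn.comp Psi) sc = 1
  rw [sgn_Psi]
  decide +kernel

theorem sgn_pow_odd {g : Fi24} {n : ℕ} (hn : Odd n) (h : g ^ n = 1) : sgn g = 1 := by
  rcases Int.units_eq_one_or (sgn g) with h1 | h1
  · exact h1
  · have h2 : sgn g ^ n = 1 := by rw [← map_pow, h, map_one]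
    rw [h1, hn.neg_one_pow] at h2
    exact absurd h2 (by decide)

theorem big_fi24' {p : ℕ} (hp : p.Prime) (h5 : 5 ≤ p) : All p Spor.Fi24' := by
  have hfin24 : Finite Fi24 := Cfsg.Agent.R08.FiTwentyFour.finite_Fi24
  have hcard : Nat.card Spor.Fi24' = 1255205709190661721292800 := Cfsg.Agent.R08.FiTwentyFour.card_commutator
  have hs : IsSimpleGroup Spor.Fi24' := Cfsg.Agent.R08.FiTwentyFour.isFi24'.1
  have hna : ¬ ∀ a b : Spor.Fi24', a * b = b * a :=
    H253.TC.not_comm_of_card (K := Spor.Fi24') hcard (by norm_num) (p := 11) (by norm_num) (by norm_num) (by norm_num)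
  have hidx : (commutator Fi24).index = 2 := Cfsg.Agent.R08.FiTwentyFour.index_commutator
  by_cases hp5 : p = 5
  · subst hp5
    have hy0 : y0 ∈ commutator Fi24 := mem_even.2 (sgn_pow_odd (n := 5) (by decide) (by
      rw [← Cfsg.Agent.LThreeFi24.FiveConj.orderOf_y0, pow_orderOf_eq_one]))
    refine all_of_one_class hp (by norm_num) (z := (⟨y0, hy0⟩ : Spor.Fi24')) (by
      rw [Subgroup.orderOf_mk, Cfsg.Agent.LThreeFi24.FiveConj.orderOf_y0]) ?_
    intro y hy
    obtain ⟨g, hg⟩ := Cfsg.Agent.LThreeFi24.FiveConj.exists_conj_five (y := (y : Fi24)) (by rw [Subgroup.orderOf_coe, hy])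
    by_cases hgN : g ∈ commutator Fi24
    · exact ⟨⟨g, hgN⟩, Subtype.ext hg⟩
    · have hd : Phi (swap 0 1) ∈ L := Phi_swap_mem_L (by decide)
      have h1 : Phi (swap 0 1) * g ∈ commutator Fi24 := by
        rw [mul_mem_iff_of_index_two hidx]
        exact iff_of_false (Cfsg.Agent.R08.FiTwentyFour.odd hd) hgN
      refine ⟨⟨_, h1⟩, Subtype.ext ?_⟩
      change Phi (swap 0 1) * g * y * (Phi (swap 0 1) * g)⁻¹ = y0
      calc Phi (swap 0 1) * g * y * (Phi (swap 0 1) * g)⁻¹ = Phi (swap 0 1) * (g * y * g⁻¹) * (Phi (swap 0 1))⁻¹ := by group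
        _ = y0 := by rw [hg, (Phi_comm_y0 (swap 0 1)).eq, mul_inv_cancel_right]
  by_cases hp7 : p = 7
  · subst hp7
    have h7 : Fact (Nat.Prime 7) := ⟨hp⟩
    have hoy : orderOf y7 = 7 := orderOf_eq_prime y7_pow y7_ne
    have hoc : orderOf c = 7 := orderOf_eq_prime c_pow c_ne
    have hyN : y7 ∈ commutator Fi24 := mem_even.2 (sgn_pow_odd (n := 7) (by decide) y7_pow)
    have hcN : c ∈ commutator Fi24 := mem_even.2 sgn_c
    let yy : Bool → Spor.Fi24' := fun b => bif b then ⟨y7, hyN⟩ else ⟨c, hcN⟩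
    have hc2 : Psi s2 * c * (Psi s2)⁻¹ = c ^ 2 := by
      rw [c_eq]
      change Psi s2 * Psi sc * (Psi s2)⁻¹ = (Psi sc) ^ 2
      rw [← map_mul, ← map_inv, ← map_mul, ← map_pow, s2_sc]
    have hc3 : Psi s3 * c * (Psi s3)⁻¹ = c ^ 3 := by
      rw [c_eq]
      change Psi s3 * Psi sc * (Psi s3)⁻¹ = (Psi sc) ^ 3
      rw [← map_mul, ← map_inv, ← map_mul, ← map_pow, s3_sc]
    have hs2 : sgn (Psi s2) = 1 := by
      have := DFunLike.congr_fun sgn_Psi s2
      rw [MonoidHom.comp_apply, s2_sign] at this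
      exact this
    have hs3 : sgn (Psi s3) = -1 := by
      have := DFunLike.congr_fun sgn_Psi s3
      rw [MonoidHom.comp_apply, s3_sign] at this
      exact this
    have hcov := cov_of_index_two (p := 7) hidx yy (by
      intro i
      cases i
      · refine ⟨Psi s3, ?_, ?_⟩
        · rw [mem_even, hs3]; decide
        · change Psi s3 * c * (Psi s3)⁻¹ ∈ zpowers c
          rw [hc3]
          exact pow_mem (mem_zpowers c) 3
      · refine ⟨t 0, Cfsg.Agent.R08.FiTwentyFour.odd (t_mem 0), ?_⟩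
        change t 0 * y7 * (t 0)⁻¹ ∈ zpowers y7
        rw [← y7_t 0, mul_inv_cancel_right]
        exact mem_zpowers y7) (by
      intro x hx
      obtain ⟨g, hg⟩ := cases7 (X := zpowers x) (by rw [Nat.card_zpowers, hx])
      rcases hg with hg | hg
      · refine ⟨true, g, ?_⟩
        change g * x * g⁻¹ ∈ zpowers y7
        rw [← hg]
        exact ⟨x, mem_zpowers x, rfl⟩
      · refine ⟨false, g, ?_⟩
        change g * x * g⁻¹ ∈ zpowers c
        rw [← hg]
        exact ⟨x, mem_zpowers x, rfl⟩)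
    refine all_of_two_cyc hp (y := (⟨y7, hyN⟩ : Spor.Fi24')) (z := (⟨c, hcN⟩ : Spor.Fi24')) (k := 6) (l := 3)
      (by rw [Subgroup.orderOf_mk, hoy]) (by rw [Subgroup.orderOf_mk, hoc]) ?_ ?_ ?_ (by norm_num) (by norm_num)
      (by norm_num)
    · intro x hx
      obtain ⟨i, g, hg⟩ := hcov x hx
      cases i
      · exact ⟨g, Or.inr hg⟩
      · exact ⟨g, Or.inl hg⟩
    · refine le_relIndex (p := 7) (m := 3) (n := (⟨t6, mem_even.2 sgn_t6⟩ : Spor.Fi24')) (by rw [Subgroup.orderOf_mk, hoy])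
        (Subtype.ext t6_y7) ?_
      decide
    · refine le_relIndex (p := 7) (m := 2) (n := (⟨Psi s2, mem_even.2 hs2⟩ : Spor.Fi24')) (by rw [Subgroup.orderOf_mk, hoc])
        (Subtype.ext hc2) ?_
      decide
  · apply all_of_not_sq_dvd (not_imc hna) hp
    rw [hcard]
    intro h
    obtain ⟨hm, hd⟩ := H941.Sq.eq_of_sq hp h ([5, 5, 7, 7, 7, 11, 13, 17, 23, 29] ++ List.replicate 21 2 ++
      List.replicate 16 3) (by decide) (by decide)
    simp only [List.mem_cons, List.not_mem_nil, or_false, List.mem_append, List.mem_replicate] at hm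
    have h11 : p ≠ 11 := by rintro rfl; revert hd; norm_num
    have h13 : p ≠ 13 := by rintro rfl; revert hd; norm_num
    have h17 : p ≠ 17 := by rintro rfl; revert hd; norm_num
    have h23 : p ≠ 23 := by rintro rfl; revert hd; norm_num
    have h29 : p ≠ 29 := by rintro rfl; revert hd; norm_num
    omega

end TF

/-- **(II) for `Fi24'`** -/
theorem big_fi24 {S : Type u} [Group S] (h : Spor.IsoFi24' S) {p : ℕ} (hp : p.Prime) (h5 : 5 ≤ p) : All p S := by
  obtain ⟨e⟩ := h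
  exact (big_fi24' hp h5).congr e.symm

end Cfsg.Agent.H980.Pw
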