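import Cfsg.Agent.H980.Pw.O8Lift
import Cfsg.Agent.H630.Ore.Co1.InA
import Cfsg.Agent.H6.ORE.CoOne

/-!
# Row `Co1` of S2465: the elements commuting with an involution of class 2A (helper980)

`C(z) = 2^(1+8).Ω⁺(8,2)`.

* `inA_six` : `InA g` implies `Pr 6 g` (the field `inA` of `H630.Ore.Co1.InputsP`);
* `inA_five`, `inA_seven` : `InA g` implies `Pr 5 g`, `Pr 7 g`.
-/

set_option autoImplicit false

namespace Cfsg.Agent.H980.Pw.CoOne

open Cfsg Cfsg.Agent.H78.Pw Cfsg.Agent.H6.ORE Cfsg.Agent.H630.Ore.Co1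
open Cfsg.Agent.H813.CoLarge (large exists_L perfect card_le card_Q' exists_fus finite_co1)
open Cfsg.Agent.StdG24.ExInst (z Q)
open Cfsg.Spor (Co1)

theorem finQ : Finite Q := (Nat.card_pos_iff.1 (by rw [card_Q']; norm_num)).2

theorem five_z {g : Co1} (hg : g * z = z * g) : Pr 5 g := by
  have := finQ
  obtain ⟨L, hL⟩ := exists_L
  exact (O8.pr_five large L hL perfect card_Q' card_le
    ⟨g, Subgroup.mem_centralizer_singleton_iff.2 hg⟩).map (Subgroup.subtype _)

theorem seven_z {g : Co1} (hg : g * z = z * g) : Pr 7 g := by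
  have := finQ
  obtain ⟨L, hL⟩ := exists_L
  exact (O8.pr_seven large L hL perfect card_Q' card_le
    ⟨g, Subgroup.mem_centralizer_singleton_iff.2 hg⟩).map (Subgroup.subtype _)

theorem six_ne {g : Co1} (hg : g * z = z * g) (hgz : g ≠ z) : Pr 6 g := by
  have := finQ
  obtain ⟨L, hL⟩ := exists_L
  exact (O8.pr_six large L hL perfect card_Q' card_le
    (g := ⟨g, Subgroup.mem_centralizer_singleton_iff.2 hg⟩) hgz).map (Subgroup.subtype _)

theorem six_z {g : Co1} (hg : g * z = z * g) : Pr 6 g := by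
  by_cases hgz : g = z
  · rw [hgz]
    obtain ⟨k, hk, hkz⟩ := exists_fus
    exact Pr.of_conj (x := k) (six_ne (large.comm_z _ hk) hkz)
  · exact six_ne hg hgz

/-- from `z` to all involutions of class 2A -/
theorem of_inA {n : ℕ} (hz : ∀ g : Co1, g * z = z * g → Pr n g) {g : Co1} (h : InA g) : Pr n g := by
  obtain ⟨u, ⟨c, hc, hu⟩, hg⟩ := h
  have h2 : IsConj z u := (H6.ORE.CoOne.isConj_z.symm).trans
    ((Cfsg.Agent.CoOneType.ClosingFacts.isConj_octad H812.CoFiveData.wt_c0 hc).trans hu)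
  obtain ⟨k, hk⟩ := isConj_iff.1 h2
  refine Pr.of_conj (x := k⁻¹) (hz _ ?_)
  calc k⁻¹ * g * k⁻¹⁻¹ * z = k⁻¹ * (g * (k * z * k⁻¹)) * k := by group
    _ = k⁻¹ * (k * z * k⁻¹ * g) * k := by rw [hk, hg]
    _ = z * (k⁻¹ * g * k⁻¹⁻¹) := by group

/-- **All 6 for the elements commuting with an involution of class 2A** -/
theorem inA_six {g : Co1} (h : InA g) : Pr 6 g := of_inA (fun _ => six_z) h

theorem inA_five {g : Co1} (h : InA g) : Pr 5 g := of_inA (fun _ => five_z) h

theorem inA_seven {g : Co1} (h : InA g) : Pr 7 g := of_inA (fun _ => seven_z) h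

end Cfsg.Agent.H980.Pw.CoOne
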