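import Cfsg.Agent.H643.PwCnt

/-!
# S2465: tools for the half rows (II) `All p`, `p ≥ 5` (helper980)

* `le_relIndex` : `n y n⁻¹ = y ^ m`, `m` of order `≥ k` mod `p`: `k ≤ |N(⟨y⟩) : C(⟨y⟩)|`;
* `all_of_one_class` : one class of elements of order `p ≥ 3`;
* `all_of_two_cyc` : two classes of subgroups of order `p`, `1 / k + 1 / l ≤ 1 / 2`;
* `cov_of_index_two` : covers in a subgroup of index two.
-/

set_option autoImplicit false

namespace Cfsg.Agent.H980.Pw

open Subgroup Cfsg.Agent.H78.Pw Cfsg.Agent.H643.PwCnt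

universe u

variable {G : Type u} [Group G]

theorem mem_normalizer_of_conj [Finite G] {y n : G} {m : ℕ} (hn : n * y * n⁻¹ = y ^ m) :
    n ∈ normalizer (zpowers y : Set G) := by
  have h5 : (zpowers y).map (MulAut.conj n).toMonoidHom = zpowers y := by
    apply Subgroup.eq_of_le_of_card_ge
    · rw [MonoidHom.map_zpowers, zpowers_le]
      change n * y * n⁻¹ ∈ zpowers y
      rw [hn]
      exact pow_mem (mem_zpowers y) m
    · rw [Subgroup.card_map_of_injective (MulAut.conj n).injective]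
  rw [mem_normalizer_iff]
  intro x
  constructor
  · intro hx
    rw [← h5]
    exact ⟨x, hx, rfl⟩
  · intro hx
    rw [← h5] at hx
    obtain ⟨w, hw, hwx⟩ := hx
    have : w = x := (MulAut.conj n).injective hwx
    rwa [← this]

theorem conj_pow_pow {y n : G} {m : ℕ} (hn : n * y * n⁻¹ = y ^ m) : ∀ i : ℕ, n ^ i * y * (n ^ i)⁻¹ = y ^ m ^ i
  | 0 => by simp
  | i + 1 => by
    have ih := conj_pow_pow hn i
    calc n ^ (i + 1) * y * (n ^ (i + 1))⁻¹ = n * (n ^ i * y * (n ^ i)⁻¹) * n⁻¹ := by rw [pow_succ']; group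
      _ = n * y ^ m ^ i * n⁻¹ := by rw [ih]
      _ = (n * y * n⁻¹) ^ m ^ i := by rw [conj_pow]
      _ = y ^ m ^ (i + 1) := by rw [hn, ← pow_mul, pow_succ']

theorem le_relIndex [Finite G] {y n : G} {p m k : ℕ} (hy : orderOf y = p) (hn : n * y * n⁻¹ = y ^ m)
    (hm : ∀ j < k, 0 < j → m ^ j % p ≠ 1 % p) :
    k ≤ (centralizer (zpowers y : Set G)).relIndex (normalizer (zpowers y : Set G)) := by
  have hnN := mem_normalizer_of_conj hn
  let N := normalizer (zpowers y : Set G)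
  let C := (centralizer (zpowers y : Set G)).subgroupOf N
  let f : Fin k → N ⧸ C := fun i => QuotientGroup.mk (⟨n, hnN⟩ ^ (i : ℕ) : N)
  have key : ∀ i j : ℕ, i < j → j < k → (QuotientGroup.mk (⟨n, hnN⟩ ^ i : N) : N ⧸ C) ≠ QuotientGroup.mk (⟨n, hnN⟩ ^ j : N) := by
    intro i j hij hj h
    rw [QuotientGroup.eq] at h
    have h1 : (⟨n, hnN⟩ ^ i : N)⁻¹ * ⟨n, hnN⟩ ^ j = ⟨n, hnN⟩ ^ (j - i) := by
      have e : j = i + (j - i) := by omega
      conv_lhs => rw [e]
      rw [pow_add, inv_mul_cancel_left]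
    rw [h1, Subgroup.mem_subgroupOf] at h
    have h2 : n ^ (j - i) ∈ centralizer (zpowers y : Set G) := h
    rw [mem_centralizer_iff] at h2
    have h3 := h2 y (mem_zpowers y)
    have h4 := conj_pow_pow hn (j - i)
    rw [← h3, mul_inv_cancel_right] at h4
    have h5 : y ^ 1 = y ^ m ^ (j - i) := by rw [pow_one]; exact h4
    rw [pow_inj_mod, hy] at h5
    exact hm (j - i) (by omega) (by omega) h5.symm
  have hf : Function.Injective f := by
    intro i j h
    rcases lt_trichotomy (i : ℕ) j with h1 | h1 | h1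
    · exact absurd h (key i j h1 j.2)
    · exact Fin.ext h1
    · exact absurd h.symm (key j i h1 i.2)
  have h1 := Nat.card_le_card_of_injective f hf
  rw [Nat.card_eq_fintype_card, Fintype.card_fin] at h1
  exact h1

/-- one class of elements of order `p`, `p ≥ 3` -/
theorem all_of_one_class [Finite G] {p : ℕ} (hp : p.Prime) (h3 : 3 ≤ p) {z : G} (hz : orderOf z = p)
    (hcl : ∀ y : G, orderOf y = p → ∃ g : G, g * y * g⁻¹ = z) : All p G := by
  refine all_of_one hp (zpowers z) (by rw [Nat.card_zpowers, hz]) (fun y hy => ?_) ?_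
  · obtain ⟨g, hg⟩ := hcl y hy
    exact ⟨g, by rw [hg]; exact mem_zpowers z⟩
  · have h2 : orderOf (z ^ 2) = p := by
      rw [Nat.Coprime.orderOf_pow, hz]
      rw [hz]
      exact (Nat.coprime_primes hp Nat.prime_two).2 (by omega)
    obtain ⟨g, hg⟩ := hcl _ h2
    have h4 : g⁻¹ * z * g⁻¹⁻¹ = z ^ 2 := by
      calc g⁻¹ * z * g⁻¹⁻¹ = g⁻¹ * (g * z ^ 2 * g⁻¹) * g := by rw [hg, inv_inv]
        _ = z ^ 2 := by group
    have h5 := le_relIndex (k := 2) hz h4 (by
      intro j hj h0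
      have : j = 1 := by omega
      subst this
      rw [pow_one, Nat.mod_eq_of_lt (by omega), Nat.mod_eq_of_lt (by omega)]
      norm_num)
    intro hle
    rw [← relIndex_eq_one] at hle
    omega

/-- two classes of subgroups of order `p` -/
theorem all_of_two_cyc [Finite G] {p : ℕ} (hp : p.Prime) {y z : G} (hy : orderOf y = p) (hz : orderOf z = p)
    (hcov : ∀ x : G, orderOf x = p → ∃ g : G, g * x * g⁻¹ ∈ zpowers y ∨ g * x * g⁻¹ ∈ zpowers z) {k l : ℕ}
    (hk : k ≤ (centralizer (zpowers y : Set G)).relIndex (normalizer (zpowers y : Set G)))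
    (hl : l ≤ (centralizer (zpowers z : Set G)).relIndex (normalizer (zpowers z : Set G)))
    (hk0 : 0 < k) (hl0 : 0 < l) (hkl : 2 * (k + l) ≤ k * l) : All p G := by
  refine all_of_sum (ι := Bool) hp (fun b => bif b then zpowers y else zpowers z)
    (fun b => by cases b <;> simp [hy, hz]) (fun x hx => ?_) ?_
  · obtain ⟨g, h | h⟩ := hcov x hx
    · exact ⟨true, g, h⟩
    · exact ⟨false, g, h⟩
  · have h1 : (1 : ℚ) / (centralizer (zpowers y : Set G)).relIndex (normalizer (zpowers y : Set G)) ≤ 1 / k :=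
      one_div_le_one_div_of_le (by exact_mod_cast hk0) (by exact_mod_cast hk)
    have h2 : (1 : ℚ) / (centralizer (zpowers z : Set G)).relIndex (normalizer (zpowers z : Set G)) ≤ 1 / l :=
      one_div_le_one_div_of_le (by exact_mod_cast hl0) (by exact_mod_cast hl)
    rw [Fintype.sum_bool]
    refine (add_le_add h1 h2).trans ?_
    have hk' : (0 : ℚ) < k := by exact_mod_cast hk0
    have hl' : (0 : ℚ) < l := by exact_mod_cast hl0
    rw [div_add_div _ _ hk'.ne' hl'.ne', div_le_div_iff₀ (by positivity) (by norm_num)]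
    have h3 : (2 * (k + l) : ℚ) ≤ k * l := by exact_mod_cast hkl
    linarith

/-- covers in a subgroup of index two -/
theorem cov_of_index_two {N : Subgroup G} (hN : N.index = 2) {p : ℕ} {ι : Type*} (y : ι → N)
    (hodd : ∀ i, ∃ g : G, g ∉ N ∧ g * y i * g⁻¹ ∈ zpowers (y i : G))
    (hcov : ∀ x : G, orderOf x = p → ∃ i, ∃ g : G, g * x * g⁻¹ ∈ zpowers (y i : G)) (x : N) (hx : orderOf x = p) :
    ∃ i, ∃ g : N, g * x * g⁻¹ ∈ zpowers (y i) := by
  have key : ∀ i, ∀ g : N, (g : G) * x * (g : G)⁻¹ ∈ zpowers (y i : G) → g * x * g⁻¹ ∈ zpowers (y i) := by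
    intro i g hg
    obtain ⟨k, hk⟩ := mem_zpowers_iff.1 hg
    exact mem_zpowers_iff.2 ⟨k, Subtype.ext (by rw [Subgroup.coe_zpow, hk]; rfl)⟩
  obtain ⟨i, g, hg⟩ := hcov x (by rw [Subgroup.orderOf_coe, hx])
  by_cases hgN : g ∈ N
  · exact ⟨i, ⟨g, hgN⟩, key i ⟨g, hgN⟩ hg⟩
  · obtain ⟨h, hh, hhy⟩ := hodd i
    have h1 : h * g ∈ N := by
      rw [mul_mem_iff_of_index_two hN]
      exact iff_of_false hh hgN
    refine ⟨i, ⟨h * g, h1⟩, key i ⟨h * g, h1⟩ ?_⟩
    change h * g * x * (h * g)⁻¹ ∈ _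
    obtain ⟨k, hk⟩ := mem_zpowers_iff.1 hg
    have h2 : h * g * (x : G) * (h * g)⁻¹ = (h * y i * h⁻¹) ^ k := by
      rw [conj_zpow, hk]; group
    rw [h2]
    exact zpow_mem hhy k

end Cfsg.Agent.H980.Pw
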