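import Cfsg.Agent.H980.Pw.O8Data

/-!
# `Ω₈⁺(2)`: products of two elements, one of them without fixed points (helper980)

`PO n l` : `l = a b` with `a`, `b` of order prime to `n`, `a` without fixed vector and `|C_V(b)| |C_V(l)| < |V|`.

* `po_six` : `l ≠ 1` implies `PO 6 l`;
* `po_ten` : `5 ∣ orderOf l` implies `PO 10 l`;
* `po_fourteen` : `7 ∣ orderOf l` implies `PO 14 l`.
-/

set_option autoImplicit false

namespace Cfsg.Agent.H980.Pw.O8

open Cfsg.Agent.StdO8.Model Cfsg.Agent.StdO8.Code Cfsg.Agent.H612.Ore Cfsg.Agent.H201.O8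
open Cfsg.Agent.StdO8.Aut (cj cj_coe)

/-- `c` is the code of `y` -/
def Cd (y : Om) (c : ℕ) : Prop := ∀ i < 8, (y : V ≃ₗ[ZMod 2] V) (dec (2 ^ i)) = dec (col 8 c i)

theorem Cd.rep {y : Om} {c : ℕ} (h : Cd y c) : act8.Rep ⟨y, Om_le y.2⟩ c := by
  intro i hi
  rw [act8_ap]
  show cd ((y : V ≃ₗ[ZMod 2] V) (dec (2 ^ i))) = _
  rw [h i hi, cd_dec (col_lt' c i)]

theorem Cd.apply {y : Om} {c : ℕ} (h : Cd y c) {v : ℕ} (hv : v < 256) :
    (y : V ≃ₗ[ZMod 2] V) (dec v) = dec (apc 8 c v) := by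
  have h1 := act8.ap_eq h.rep (v := v) hv
  rw [act8_ap] at h1
  rw [← h1, dec_cd]

theorem Cd.lt {y : Om} {c : ℕ} (h : Cd y c) {v : ℕ} (hv : v < 256) : apc 8 c v < 256 := by
  rw [← act8.ap_eq h.rep (v := v) hv]
  exact act8.lt _ _ hv

theorem Cd.pow {y : Om} {c : ℕ} (h : Cd y c) (k : ℕ) : ∀ {v : ℕ}, v < 256 →
    ((y ^ k : Om) : V ≃ₗ[ZMod 2] V) (dec v) = dec ((apc 8 c)^[k] v) := by
  induction k with
  | zero => intro v _; rfl
  | succ k ih =>
    intro v hv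
    rw [pow_succ]
    show ((y ^ k : Om) : V ≃ₗ[ZMod 2] V) ((y : V ≃ₗ[ZMod 2] V) (dec v)) = _
    rw [h.apply hv, Function.iterate_succ_apply]
    exact ih (h.lt hv)

theorem Cd.pow_eq_one {y : Om} {c k : ℕ} (h : Cd y c)
    (hk : ((List.range 8).all fun i => (apc 8 c)^[k] (2 ^ i) == 2 ^ i) = true) : y ^ k = 1 := by
  apply Subtype.ext
  apply lin_ext
  intro b hb
  obtain ⟨i, hi, rfl⟩ := mem_basis hb
  rw [h.pow k (two_pow_lt (n := 8) hi), eq_of_beq (List.all_eq_true.1 hk i (List.mem_range.2 hi))]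
  rfl

theorem Cd.card_fix {y : Om} {c : ℕ} (h : Cd y c) :
    Nat.card {v : V // (y : V ≃ₗ[ZMod 2] V) v = v} ≤ fixN c := by
  have h1 : fixN c = ((Finset.range 256).filter fun v => apc 8 c v = v).card := by
    rw [fixN, List.countP_eq_length_filter, Finset.card_def, Finset.filter_val]
    show _ = (Multiset.filter _ ((List.range 256 : List ℕ) : Multiset ℕ)).card
    rw [Multiset.filter_coe, Multiset.coe_card]
    congr 1
  rw [h1, ← Nat.card_eq_finsetCard]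
  refine Nat.card_le_card_of_injective (fun v : {v : V // (y : V ≃ₗ[ZMod 2] V) v = v} =>
    (⟨cd v.1, ?_⟩ : {x // x ∈ (Finset.range 256).filter fun v => apc 8 c v = v})) ?_
  · rw [Finset.mem_filter, Finset.mem_range]
    refine ⟨cd_lt _, dec_inj (h.lt (cd_lt _)) (cd_lt _) ?_⟩
    rw [← h.apply (cd_lt _), dec_cd, v.2]
  · intro v w hvw
    exact Subtype.ext (cd_inj (congrArg Subtype.val hvw))

theorem Cd.mul {a y : Om} {ac bc c : ℕ} (ha : Cd a ac) (hy : Cd y c)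
    (h : ((List.range 8).all fun i => apc 8 ac (col 8 bc i) == col 8 c i) = true) : Cd (a⁻¹ * y) bc := by
  intro i hi
  have h1 := eq_of_beq (List.all_eq_true.1 h i (List.mem_range.2 hi))
  show ((a : V ≃ₗ[ZMod 2] V)⁻¹) ((y : V ≃ₗ[ZMod 2] V) (dec (2 ^ i))) = _
  rw [hy i hi, ← h1, ← ha.apply (col_lt' bc i)]
  exact (a : V ≃ₗ[ZMod 2] V).symm_apply_apply _

theorem cd_word {w : List (ℕ × ℕ)} {c : ℕ} (hw : w.all ok = true)
    (h : ((List.range 8).all fun i => ev w (2 ^ i) == col 8 c i) = true) : Cd (word w) c := by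
  intro i hi
  rw [word_dec hw, eq_of_beq (List.all_eq_true.1 h i (List.mem_range.2 hi))]

/-- `l = a b` with `a`, `b` of order prime to `n`, `a` without fixed vector and `|C_V(b)| |C_V(l)| < |V|` -/
def PO (n : ℕ) (l : Om) : Prop := ∃ a b : Om, l = a * b ∧ (orderOf a).Coprime n ∧ (orderOf b).Coprime n ∧
  (∀ v : V, (a : V ≃ₗ[ZMod 2] V) v = v → v = 0) ∧
  Nat.card {v : V // (b : V ≃ₗ[ZMod 2] V) v = v} * Nat.card {v : V // (l : V ≃ₗ[ZMod 2] V) v = v} < 256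

theorem fix_conj (M : O8) (x : Om) :
    Nat.card {v : V // ((cj M x : Om) : V ≃ₗ[ZMod 2] V) v = v} = Nat.card {v : V // (x : V ≃ₗ[ZMod 2] V) v = v} := by
  refine Nat.card_congr (Equiv.subtypeEquiv (M : V ≃ₗ[ZMod 2] V).symm.toEquiv fun v => ?_)
  rw [cj_coe]
  show (M : V ≃ₗ[ZMod 2] V) ((x : V ≃ₗ[ZMod 2] V) ((M : V ≃ₗ[ZMod 2] V).symm v)) = v ↔
    (x : V ≃ₗ[ZMod 2] V) ((M : V ≃ₗ[ZMod 2] V).symm v) = (M : V ≃ₗ[ZMod 2] V).symm v
  rw [LinearEquiv.eq_symm_apply]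

theorem PO.conj {n : ℕ} {l : Om} (h : PO n l) (M : O8) : PO n (cj M l) := by
  obtain ⟨a, b, e, ha, hb, hf, hc⟩ := h
  refine ⟨cj M a, cj M b, by rw [e, map_mul], by rw [MulEquiv.orderOf_eq]; exact ha,
    by rw [MulEquiv.orderOf_eq]; exact hb, ?_, ?_⟩
  · intro v hv
    rw [cj_coe] at hv
    have h1 : (M : V ≃ₗ[ZMod 2] V) ((a : V ≃ₗ[ZMod 2] V) ((M : V ≃ₗ[ZMod 2] V).symm v)) = v := hv
    rw [← LinearEquiv.eq_symm_apply] at h1
    have h2 := hf _ h1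
    rwa [LinearEquiv.map_eq_zero_iff] at h2
  · rw [fix_conj, fix_conj]
    exact hc

theorem po_row {n : ℕ} {r : Row} (h : chk n r = true) {y : Om} (hy : Cd y r.c) : PO n y := by
  simp only [chk, Bool.and_eq_true, beq_iff_eq, decide_eq_true_eq] at h
  obtain ⟨⟨⟨⟨⟨⟨⟨⟨h1, h2⟩, h3⟩, h4⟩, h5⟩, h6⟩, h7⟩, h8⟩, h9⟩ := h
  have ha : Cd (word r.w) r.a := cd_word h1 (by simpa only [beq_iff_eq] using h2)
  have hb := ha.mul hy (bc := r.b) (by simpa only [beq_iff_eq] using h3)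
  refine ⟨word r.w, (word r.w)⁻¹ * y, by group, ?_, ?_, ?_, ?_⟩
  · exact Nat.Coprime.of_dvd_left (orderOf_dvd_of_pow_eq_one (ha.pow_eq_one (k := r.ka) (by simpa only [beq_iff_eq] using h4))) h6
  · exact Nat.Coprime.of_dvd_left (orderOf_dvd_of_pow_eq_one (hb.pow_eq_one (k := r.kb) (by simpa only [beq_iff_eq] using h5))) h7
  · intro v hv
    have h10 := ha.card_fix
    rw [h8, Finite.card_le_one_iff_subsingleton] at h10
    exact congrArg Subtype.val (Subsingleton.elim (⟨v, hv⟩ : {v : V // ((word r.w : Om) : V ≃ₗ[ZMod 2] V) v = v}) ⟨0, map_zero _⟩)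
  · exact lt_of_le_of_lt (Nat.mul_le_mul hb.card_fix hy.card_fix) h9

/-- **`n = 6`** -/
theorem po_six {l : Om} (hl : l ≠ 1) : PO 6 l := by
  obtain ⟨c, hc, h, y, hy, rfl⟩ := coverOm' hl
  rw [cov6] at hc
  obtain ⟨r, hr, rfl⟩ := List.mem_map.1 hc
  exact (po_row (List.all_eq_true.1 chk6 r hr) hy).conj h

theorem exists_zip {α β : Type*} (l : List α) (m : List β) (hlen : l.length = m.length) {c : α} (hc : c ∈ l) :
    ∃ k, (c, k) ∈ l.zip m := by
  obtain ⟨i, hi, e⟩ := List.mem_iff_getElem.1 hc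
  have hi' : i < m.length := by rw [← hlen]; exact hi
  refine ⟨m[i], ?_⟩
  rw [List.mem_iff_getElem]
  refine ⟨i, by rw [List.length_zip]; exact lt_min hi hi', ?_⟩
  rw [List.getElem_zip, e]

theorem exists_ord {c : ℕ} (hc : c ∈ reps.take 39) : ∃ k, (c, k) ∈ (reps.take 39).zip ords ∧
    ∀ y : Om, Cd y c → y ^ k = 1 := by
  obtain ⟨k, hm⟩ := exists_zip _ _ ords_len hc
  refine ⟨k, hm, fun y hy => ?_⟩
  have h1 := List.all_eq_true.1 ords_ok (c, k) hm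
  exact hy.pow_eq_one h1

/-- **`n = 10`** -/
theorem po_ten {l : Om} (hl : 5 ∣ orderOf l) : PO 10 l := by
  have hl1 : l ≠ 1 := by
    rintro rfl
    rw [orderOf_one] at hl
    omega
  obtain ⟨c, hc, h, y, hy, rfl⟩ := coverOm' hl1
  obtain ⟨k, hk, hk1⟩ := exists_ord hc
  have h1 := List.all_eq_true.1 cov10 _ hk
  rw [Bool.or_eq_true, beq_iff_eq, List.contains_iff_mem] at h1
  rcases h1 with h1 | h1
  · obtain ⟨r, hr, e⟩ := List.mem_map.1 h1
    exact (po_row (List.all_eq_true.1 chk10 r hr) (by rw [e]; exact hy)).conj h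
  · exfalso
    rw [MulEquiv.orderOf_eq] at hl
    have h2 := hl.trans (orderOf_dvd_of_pow_eq_one (hk1 y hy))
    have h3 : 5 ∣ Nat.gcd k 5 := Nat.dvd_gcd h2 dvd_rfl
    rw [h1] at h3
    omega

/-- **`n = 14`** -/
theorem po_fourteen {l : Om} (hl : 7 ∣ orderOf l) : PO 14 l := by
  have hl1 : l ≠ 1 := by
    rintro rfl
    rw [orderOf_one] at hl
    omega
  obtain ⟨c, hc, h, y, hy, rfl⟩ := coverOm' hl1
  obtain ⟨k, hk, hk1⟩ := exists_ord hc
  have h1 := List.all_eq_true.1 cov14 _ hk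
  rw [Bool.or_eq_true, beq_iff_eq, List.contains_iff_mem] at h1
  rcases h1 with h1 | h1
  · obtain ⟨r, hr, e⟩ := List.mem_map.1 h1
    exact (po_row (List.all_eq_true.1 chk14 r hr) (by rw [e]; exact hy)).conj h
  · exfalso
    rw [MulEquiv.orderOf_eq] at hl
    have h2 := hl.trans (orderOf_dvd_of_pow_eq_one (hk1 y hy))
    have h3 : 7 ∣ Nat.gcd k 7 := Nat.dvd_gcd h2 dvd_rfl
    rw [h1] at h3
    omega

end Cfsg.Agent.H980.Pw.O8
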