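import Cfsg.Agent.H980.Pw.O8
import Cfsg.Agent.H323.Pw.Coset
import Cfsg.Agent.H6.ORE.LargeOre
import Cfsg.Agent.H813.CoLarge

/-!
# Products of two elements in a centralizer `2^(1+8).Ω⁺(8,2)` (helper980)

`Q` large extraspecial of order `2 ^ 9` for `z`, `L` coordinates of `Q / ⟨z⟩` in which the squaring form is the
hyperbolic form, `C(z)` perfect of order at least `|2^(1+8).Ω⁺(8,2)|`.  Then

* `toOm : C(z) →* Om` is onto with kernel `Q` and equivariant;
* `pr_six` : every `g` of `C(z)`, `g ≠ z`, is a product of two elements of `C(z)` of order prime to 6;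
* `pr_five`, `pr_seven` : every `g` of `C(z)` is a product of two elements of order prime to 5 (prime to 7).
-/

set_option autoImplicit false

namespace Cfsg.Agent.H980.Pw.O8

open Cfsg.Agent.H6.ORE Cfsg.Agent.H78.Pw Cfsg.Agent.H323.Pw
open Cfsg.Agent.Co2Type.Quad (Large)
open Cfsg.Agent.StdO8.Model Cfsg.Agent.LieClassical.OrthCore

universe u

section lift

variable {G : Type u} [Group G] {Q : Subgroup G} {z : G}

/-- the action on `Q / ⟨z⟩` in coordinates -/
noncomputable def toE (h : Large Q z) (L : h.V ≃ₗ[ZMod 2] V) : CZ z →* (V ≃ₗ[ZMod 2] V) where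
  toFun g := (L.symm.trans (h.act g)).trans L
  map_one' := by
    apply LinearEquiv.ext
    intro v
    show L (h.act 1 (L.symm v)) = v
    rw [map_one]
    exact L.apply_symm_apply v
  map_mul' a b := by
    apply LinearEquiv.ext
    intro v
    show L (h.act (a * b) (L.symm v)) = L (h.act a (L.symm (L (h.act b (L.symm v)))))
    rw [map_mul, L.symm_apply_apply]
    rfl

theorem toE_apply (h : Large Q z) (L : h.V ≃ₗ[ZMod 2] V) (g : CZ z) (v : V) :
    toE h L g v = L (h.act g (L.symm v)) := rfl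

theorem toE_mem_O8 (h : Large Q z) (L : h.V ≃ₗ[ZMod 2] V)
    (hL : ∀ v, h.q v = Cfsg.quadFormPlus 4 (ZMod 2) (L v)) (g : CZ z) : toE h L g ∈ O8 := by
  rw [mem_O8]
  intro v
  have hq : ∀ v : V, q v = Cfsg.quadFormPlus 4 (ZMod 2) v := fun v =>
    congrFun (Cfsg.Agent.LieClassical.QuadForms.coe_plusForm 4) v
  rw [hq, hq, toE_apply, ← hL, h.q_act, hL, L.apply_symm_apply]

theorem toE_mem_Om (h : Large Q z) (L : h.V ≃ₗ[ZMod 2] V)
    (hL : ∀ v, h.q v = Cfsg.quadFormPlus 4 (ZMod 2) (L v)) (hp : commutator (CZ z) = ⊤) (g : CZ z) :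
    toE h L g ∈ Om := by
  have h1 : (toE h L).range ≤ Om := by
    refine le_trans ?_ good.commutator_le_E
    rw [MonoidHom.range_eq_map, ← hp, commutator_def, Subgroup.map_commutator]
    apply Subgroup.commutator_mono
    · rintro _ ⟨x, -, rfl⟩
      exact toE_mem_O8 h L hL x
    · rintro _ ⟨x, -, rfl⟩
      exact toE_mem_O8 h L hL x
  exact h1 ⟨g, rfl⟩

/-- the homomorphism to `Om` -/
noncomputable def toOm (h : Large Q z) (L : h.V ≃ₗ[ZMod 2] V)
    (hL : ∀ v, h.q v = Cfsg.quadFormPlus 4 (ZMod 2) (L v)) (hp : commutator (CZ z) = ⊤) : CZ z →* Om :=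
  (toE h L).codRestrict Om (toE_mem_Om h L hL hp)

theorem toOm_coe (h : Large Q z) (L : h.V ≃ₗ[ZMod 2] V)
    (hL : ∀ v, h.q v = Cfsg.quadFormPlus 4 (ZMod 2) (L v)) (hp : commutator (CZ z) = ⊤) (g : CZ z) :
    (toOm h L hL hp g : V ≃ₗ[ZMod 2] V) = toE h L g := rfl

theorem ker_toOm [Finite Q] (h : Large Q z) (L : h.V ≃ₗ[ZMod 2] V)
    (hL : ∀ v, h.q v = Cfsg.quadFormPlus 4 (ZMod 2) (L v)) (hp : commutator (CZ z) = ⊤) :
    (toOm h L hL hp).ker = Q.subgroupOf (CZ z) := by
  ext c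
  rw [MonoidHom.mem_ker, Subgroup.mem_subgroupOf]
  constructor
  · intro h0
    apply h.mem_of_act c
    apply LinearEquiv.ext
    intro v
    have h1 : toE h L c = 1 := congrArg Subtype.val h0
    have h2 := toE_apply h L c (L v)
    rw [h1, LinearEquiv.symm_apply_apply] at h2
    exact (L.injective h2).symm
  · intro h0
    apply Subtype.ext
    apply LinearEquiv.ext
    intro w
    rw [toOm_coe, toE_apply, h.act_mem _ h0]
    exact L.apply_symm_apply w

theorem card_Om : Nat.card Om = 174182400 := by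
  rw [← Cfsg.Agent.CoOneNWC.OmFacts.card_om8]
  have e3 : Cfsg.Omega (ZMod 2) (Cfsg.quadFormPlus 4 (ZMod 2)) ≃* Om := by
    rw [← Cfsg.Agent.LieClassical.QuadForms.coe_plusForm]
    exact Cfsg.Agent.AutOrth.Main.oe good
  exact (Nat.card_congr e3.toEquiv).symm

instance finite_Om : Finite Om := (Nat.card_pos_iff.1 (by rw [card_Om]; norm_num)).2

theorem toOm_surjective [Finite Q] (h : Large Q z) (L : h.V ≃ₗ[ZMod 2] V)
    (hL : ∀ v, h.q v = Cfsg.quadFormPlus 4 (ZMod 2) (L v)) (hp : commutator (CZ z) = ⊤)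
    (hQ : Nat.card Q = 2 ^ 9) (hC : 89181388800 ≤ Nat.card (CZ z)) : Function.Surjective (toOm h L hL hp) := by
  rw [← MonoidHom.range_eq_top]
  have hker : Nat.card (toOm h L hL hp).ker = 2 ^ 9 := by
    rw [ker_toOm h L hL hp, ← hQ]
    refine Nat.card_congr (Subgroup.subgroupOfEquivOfLe ?_).toEquiv
    exact fun x hx => Subgroup.mem_centralizer_singleton_iff.2 (h.comm_z x hx)
  have h1 := Subgroup.card_eq_card_quotient_mul_card_subgroup (toOm h L hL hp).ker
  have h2 : Nat.card (CZ z ⧸ (toOm h L hL hp).ker) = Nat.card (toOm h L hL hp).range :=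
    Nat.card_congr (QuotientGroup.quotientKerEquivRange _).toEquiv
  rw [hker, h2] at h1
  apply Subgroup.eq_top_of_le_card
  rw [card_Om]
  omega

/-- the fixed points -/
theorem card_fixZ [Finite Q] (h : Large Q z) (L : h.V ≃ₗ[ZMod 2] V) (a : CZ z) :
    Nat.card (FixZ (Q.subgroupOf (CZ z)) (zC z) a) ≤ 2 * Nat.card {v : V // toE h L a v = v} := by
  classical
  choose sec hsec using h.pr_surjective
  let x' : FixZ (Q.subgroupOf (CZ z)) (zC z) a → Q := fun x => ⟨((x.1 : CZ z) : G), Subgroup.mem_subgroupOf.1 x.1.2⟩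
  have hfx : ∀ x, toE h L a (L (h.pr (x' x))) = L (h.pr (x' x)) := by
    intro x
    rw [toE_apply, L.symm_apply_apply, h.act_pr]
    congr 1
    rw [h.pr_eq_pr, h.conjQ_coe]
    rcases x.2 with e | e
    · exact Or.inl (congrArg Subtype.val e)
    · exact Or.inr (congrArg Subtype.val e)
  have h1 : Nat.card (FixZ (Q.subgroupOf (CZ z)) (zC z) a) ≤ Nat.card ({v : V // toE h L a v = v} × Bool) := by
    refine Nat.card_le_card_of_injective (fun x => (⟨L (h.pr (x' x)), hfx x⟩, decide (x' x = sec (h.pr (x' x))))) ?_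
    intro x y hxy
    have h2 : h.pr (x' x) = h.pr (x' y) := L.injective (congrArg Subtype.val (congrArg Prod.fst hxy))
    have h3 : decide (x' x = sec (h.pr (x' x))) = decide (x' y = sec (h.pr (x' y))) := congrArg Prod.snd hxy
    have key : x' x = x' y := by
      by_cases h6 : x' x = sec (h.pr (x' x))
      · have h7 : x' y = sec (h.pr (x' y)) := of_decide_eq_true (h3 ▸ decide_eq_true h6)
        rw [h6, h7, h2, ← h7]
      · have h7 : ¬ x' y = sec (h.pr (x' y)) := of_decide_eq_false (h3 ▸ decide_eq_false h6)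
        have h8 := (h.pr_eq_pr.1 (hsec (h.pr (x' x))).symm).resolve_left (fun e => h6 (Subtype.ext e))
        have h9 := (h.pr_eq_pr.1 (hsec (h.pr (x' y))).symm).resolve_left (fun e => h7 (Subtype.ext e))
        exact Subtype.ext (by rw [h8, h9, h2])
    have key' : ((x.1 : CZ z) : G) = ((y.1 : CZ z) : G) := congrArg (fun t : Q => (t : G)) key
    exact Subtype.ext (Subtype.ext (Subtype.ext key'))
  rw [Nat.card_prod, Nat.card_eq_fintype_card (α := Bool), Fintype.card_bool, mul_comm] at h1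
  exact h1

theorem fixZ_of_fpf [Finite Q] (h : Large Q z) (L : h.V ≃ₗ[ZMod 2] V) {a : CZ z}
    (ha : ∀ v : V, toE h L a v = v → v = 0) :
    ∀ x ∈ Q.subgroupOf (CZ z), (a * x * a⁻¹ = x ∨ a * x * a⁻¹ = x * zC z) → x = 1 ∨ x = zC z := by
  intro x hx hax
  set y : Q := ⟨(x : G), Subgroup.mem_subgroupOf.1 hx⟩ with hy
  have h1 : toE h L a (L (h.pr y)) = L (h.pr y) := by
    rw [toE_apply, L.symm_apply_apply, h.act_pr]
    congr 1
    rw [h.pr_eq_pr, h.conjQ_coe]
    rcases hax with e | e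
    · exact Or.inl (congrArg Subtype.val e)
    · exact Or.inr (congrArg Subtype.val e)
  have h2 := ha _ h1
  rw [LinearEquiv.map_eq_zero_iff, h.pr_eq_zero] at h2
  rcases h2 with e | e
  · exact Or.inl (Subtype.ext e)
  · exact Or.inr (Subtype.ext e)

/-- **the lifting** -/
theorem lift_po [Finite Q] (h : Large Q z) (L : h.V ≃ₗ[ZMod 2] V)
    (hL : ∀ v, h.q v = Cfsg.quadFormPlus 4 (ZMod 2) (L v)) (hp : commutator (CZ z) = ⊤)
    (hQ : Nat.card Q = 2 ^ 9) (hC : 89181388800 ≤ Nat.card (CZ z)) {n : ℕ} (hn : 2 ∣ n) {g : CZ z}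
    (hg : PO n (toOm h L hL hp g)) : Pr n g := by
  obtain ⟨a0, b0, e, ha, hb, hf, hc⟩ := hg
  obtain ⟨a, rfl⟩ := toOm_surjective h L hL hp hQ hC a0
  obtain ⟨b, rfl⟩ := toOm_surjective h L hL hp hQ hC b0
  have hk := ker_toOm h L hL hp
  have hES : ES (toOm h L hL hp).ker (zC z) := by rw [hk]; exact es_of_large h
  have hle : Q ≤ CZ z := fun x hx => Subgroup.mem_centralizer_singleton_iff.2 (h.comm_z x hx)
  have hfin : Finite (toOm h L hL hp).ker := by
    rw [hk]
    exact Finite.of_equiv _ (Subgroup.subgroupOfEquivOfLe hle).symm.toEquiv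
  have hfa := fixZ_of_fpf h L (a := a) (fun v hv => hf v hv)
  rw [← hk] at hfa
  refine Pr.of_es (toOm h L hL hp) hES hn (FPz.of_left hES b hfa) ?_ e ha hb
  have h1 := card_fixZ_le hfa
  have h2 := card_fixZ h L b
  have h3 := card_fixZ h L (a * b)
  have h4 : Nat.card (toOm h L hL hp).ker = 512 := by
    rw [hk, Nat.card_congr (Subgroup.subgroupOfEquivOfLe hle).toEquiv, hQ]
    norm_num
  have h5 : Nat.card {v : V // toE h L b v = v} * Nat.card {v : V // toE h L (a * b) v = v} < 256 := by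
    have h6 := hc
    rw [e, ← map_mul] at h6
    exact h6
  rw [← hk] at h2 h3
  rw [h4]
  generalize Nat.card {v : V // toE h L b v = v} = p at h2 h5
  generalize Nat.card {v : V // toE h L (a * b) v = v} = r at h3 h5
  calc _ ≤ 2 * (2 * p) * (2 * r) := Nat.mul_le_mul (Nat.mul_le_mul h1 h2) h3
    _ = 8 * (p * r) := by ring
    _ < 4 * 512 := by omega

theorem exists_pow_four (h : Large Q z) {x : G} (hx : x ∈ Q) : x ^ 4 = 1 := by
  have e : x ^ 4 = (x * x) * (x * x) := by rw [pow_succ, pow_succ, pow_two]; group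
  rcases h.sq x hx with h1 | h1
  · rw [e, h1, mul_one]
  · rw [e, h1, h.z_sq]

/-- the order of an element of `C(z)` -/
theorem orderOf_dvd [Finite Q] (h : Large Q z) (L : h.V ≃ₗ[ZMod 2] V)
    (hL : ∀ v, h.q v = Cfsg.quadFormPlus 4 (ZMod 2) (L v)) (hp : commutator (CZ z) = ⊤) (g : CZ z) :
    orderOf g ∣ orderOf (toOm h L hL hp g) * 4 := by
  apply orderOf_dvd_of_pow_eq_one
  rw [pow_mul]
  have h1 : g ^ orderOf (toOm h L hL hp g) ∈ (toOm h L hL hp).ker := by
    rw [MonoidHom.mem_ker, map_pow, pow_orderOf_eq_one]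
  rw [ker_toOm, Subgroup.mem_subgroupOf] at h1
  exact Subtype.ext (exists_pow_four h h1)

theorem pr_prime [Finite Q] (h : Large Q z) (L : h.V ≃ₗ[ZMod 2] V)
    (hL : ∀ v, h.q v = Cfsg.quadFormPlus 4 (ZMod 2) (L v)) (hp : commutator (CZ z) = ⊤)
    (hQ : Nat.card Q = 2 ^ 9) (hC : 89181388800 ≤ Nat.card (CZ z)) {p : ℕ} (hpp : p.Prime) (hp2 : p ≠ 2)
    (hpo : ∀ l : Om, p ∣ orderOf l → PO (2 * p) l) (g : CZ z) : Pr p g := by
  by_cases hd : p ∣ orderOf (toOm h L hL hp g)
  · exact (lift_po h L hL hp hQ hC (Dvd.intro _ rfl) (hpo _ hd)).of_dvd (Dvd.intro_left _ rfl)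
  · refine Pr.of_coprime (Nat.Coprime.of_dvd_left (orderOf_dvd h L hL hp g) ?_)
    refine Nat.Coprime.mul_left ((Nat.Prime.coprime_iff_not_dvd hpp).2 hd).symm ?_
    rw [show (4 : ℕ) = 2 ^ 2 by norm_num]
    exact Nat.Coprime.pow_left 2 ((Nat.coprime_primes Nat.prime_two hpp).2 hp2.symm)

/-- **products of two elements of order prime to 5** -/
theorem pr_five [Finite Q] (h : Large Q z) (L : h.V ≃ₗ[ZMod 2] V)
    (hL : ∀ v, h.q v = Cfsg.quadFormPlus 4 (ZMod 2) (L v)) (hp : commutator (CZ z) = ⊤)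
    (hQ : Nat.card Q = 2 ^ 9) (hC : 89181388800 ≤ Nat.card (CZ z)) (g : CZ z) : Pr 5 g :=
  pr_prime h L hL hp hQ hC (by norm_num) (by norm_num) (fun _ hl => po_ten hl) g

/-- **products of two elements of order prime to 7** -/
theorem pr_seven [Finite Q] (h : Large Q z) (L : h.V ≃ₗ[ZMod 2] V)
    (hL : ∀ v, h.q v = Cfsg.quadFormPlus 4 (ZMod 2) (L v)) (hp : commutator (CZ z) = ⊤)
    (hQ : Nat.card Q = 2 ^ 9) (hC : 89181388800 ≤ Nat.card (CZ z)) (g : CZ z) : Pr 7 g :=
  pr_prime h L hL hp hQ hC (by norm_num) (by norm_num) (fun _ hl => po_fourteen hl) g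

/-- **products of two elements of order prime to 6** -/
theorem pr_six [Finite Q] (h : Large Q z) (L : h.V ≃ₗ[ZMod 2] V)
    (hL : ∀ v, h.q v = Cfsg.quadFormPlus 4 (ZMod 2) (L v)) (hp : commutator (CZ z) = ⊤)
    (hQ : Nat.card Q = 2 ^ 9) (hC : 89181388800 ≤ Nat.card (CZ z)) {g : CZ z} (hgz : (g : G) ≠ z) : Pr 6 g := by
  by_cases hg1 : toOm h L hL hp g = 1
  · have hk := ker_toOm h L hL hp
    have hgQ : g ∈ Q.subgroupOf (CZ z) := by rw [← hk, MonoidHom.mem_ker]; exact hg1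
    have hnt : Nontrivial Om := Finite.one_lt_card_iff_nontrivial.1 (by rw [card_Om]; norm_num)
    obtain ⟨l, hl⟩ := exists_ne (1 : Om)
    obtain ⟨a0, -, -, ha, -, hf, -⟩ := po_six hl
    obtain ⟨a, rfl⟩ := toOm_surjective h L hL hp hQ hC a0
    have hex : ∀ x ∈ Q.subgroupOf (CZ z), ∃ m : ℕ, x ^ 6 ^ m = 1 := by
      intro x hx
      refine ⟨2, ?_⟩
      rw [show 6 ^ 2 = 4 * 9 by norm_num, pow_mul,
        show x ^ 4 = 1 from Subtype.ext (exists_pow_four h (Subgroup.mem_subgroupOf.1 hx)), one_pow]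
    obtain ⟨y, hy, hay⟩ := exists_lift (toOm h L hL hp) hk hex ha
    have hle : Q ≤ CZ z := fun x hx => Subgroup.mem_centralizer_singleton_iff.2 (h.comm_z x hx)
    have hfin : Finite (Q.subgroupOf (CZ z)) := Finite.of_equiv _ (Subgroup.subgroupOfEquivOfLe hle).symm.toEquiv
    have hfa : ∀ v : V, toE h L (a * y) v = v → v = 0 := by
      intro v hv
      apply hf
      have hy1 : toOm h L hL hp y = 1 := by
        rw [← MonoidHom.mem_ker, hk]; exact hy
      have h1 : toOm h L hL hp (a * y) = toOm h L hL hp a := by rw [map_mul, hy1, mul_one]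
      rw [← h1]
      exact hv
    refine Pr.of_es_mem (es_of_large h) hay (fixZ_of_fpf h L hfa) hgQ ?_
    intro e
    exact hgz (congrArg Subtype.val e)
  · exact lift_po h L hL hp hQ hC (by norm_num) (po_six hg1)

end lift

end Cfsg.Agent.H980.Pw.O8
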